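import Groth.Agent.TowerEpi22.Alg
import Groth.Agent.QCoh.CokerQC
import Groth.Agent.QCoh.Support
import Groth.Agent.QCoh.FT
import Mathlib.AlgebraicGeometry.Morphisms.FiniteType
import Mathlib.Algebra.Category.Grp.Limits
import Mathlib.CategoryTheory.Limits.Types.Limits

/-!
# Towers of quasi-coherent quotients with epimorphic limit
-/

universe u

set_option autoImplicit false
set_option backward.isDefEq.respectTransparency false
set_option backward.isDefEq.respectTransparency.types false
set_option linter.style.haveILetI false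
set_option maxHeartbeats 1000000

open CategoryTheory CategoryTheory.Limits AlgebraicGeometry Opposite TopologicalSpace

namespace Groth.Agent.TowerEpi22

open Groth.Agent.QCoh

variable {X : Scheme.{u}}

/-- Sections over an open as a functor to types. -/
noncomputable abbrev sectionsFunctor (U : X.Opens) : X.Modules ⥤ Type u :=
  Scheme.Modules.toPresheaf X ⋙ (evaluation _ _).obj (op U) ⋙ forget _

/-- A compatible family of sections is a section of the limit. -/
theorem exists_limit_section (Q : ℕᵒᵖ ⥤ X.Modules) {U : X.Opens} (t : ∀ n : ℕ, Γ(Q.obj (op n), U))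
    (ht : ∀ n : ℕ, (Q.map (homOfLE (Nat.le_succ n)).op).app U (t (n + 1)) = t n) :
    ∃ s : Γ(limit Q, U), ∀ n, (limit.π Q (op n)).app U s = t n := by
  have hc : ∀ (m n : ℕ) (h : m ≤ n), (Q.map (homOfLE h).op).app U (t n) = t m := by
    intro m n h
    induction h with
    | refl =>
      rw [show (homOfLE (le_refl m)).op = 𝟙 (op m) from rfl, Q.map_id]
      rfl
    | @step n h ih =>
      rw [show (homOfLE (Nat.le.step h)).op = (homOfLE (Nat.le_succ n)).op ≫ (homOfLE h).op from rfl,
        Q.map_comp]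
      show (Q.map (homOfLE h).op).app U ((Q.map (homOfLE (Nat.le_succ n)).op).app U (t (n + 1))) = t m
      rw [ht n]
      exact ih
  haveI : PreservesLimitsOfShape ℕᵒᵖ (Scheme.Modules.toPresheaf X) :=
    (preservesSmallestLimits_of_preservesLimits _).preservesLimitsOfShape
  haveI : PreservesLimitsOfShape ℕᵒᵖ (forget AddCommGrpCat.{u}) :=
    (preservesSmallestLimits_of_preservesLimits _).preservesLimitsOfShape
  haveI : HasLimitsOfShape ℕᵒᵖ AddCommGrpCat.{u} := inferInstance
  haveI : PreservesLimitsOfShape ℕᵒᵖ ((evaluation X.Opensᵒᵖ AddCommGrpCat.{u}).obj (op U)) :=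
    evaluation_preservesLimitsOfShape _
  haveI : PreservesLimitsOfShape ℕᵒᵖ ((evaluation X.Opensᵒᵖ AddCommGrpCat.{u}).obj (op U) ⋙ forget _) :=
    comp_preservesLimitsOfShape _ _
  haveI : PreservesLimitsOfShape ℕᵒᵖ (sectionsFunctor U) := comp_preservesLimitsOfShape _ _
  have hl := isLimitOfPreserves (sectionsFunctor U) (limit.isLimit Q)
  obtain ⟨s, hs⟩ := (Types.isLimit_iff _).1 ⟨hl⟩ (fun j => t j.unop) (fun {i j} f => by
    obtain ⟨m⟩ := i
    obtain ⟨n⟩ := j
    exact hc n m (leOfHom f.unop))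
  exact ⟨s, fun n => hs.1 (op n)⟩

/-- The linear map given by generators, along a ring map. -/
noncomputable def genMap {P : Type u} [CommRing P] {A M : Type u} [CommRing A] [AddCommGroup M] [Module A M]
    (φ : P →+* A) (g : ℕ → M) : (ℕ →₀ P) →+ M where
  toFun z := z.sum fun j p => φ p • g j
  map_zero' := Finsupp.sum_zero_index (h := fun j p => φ p • g j)
  map_add' a b := Finsupp.sum_add_index' (fun j => by simp) fun j p p' => by rw [map_add, add_smul]

theorem genMap_smul {P : Type u} [CommRing P] {A M : Type u} [CommRing A] [AddCommGroup M] [Module A M]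
    (φ : P →+* A) (g : ℕ → M) (p : P) (z : ℕ →₀ P) : genMap φ g (p • z) = φ p • genMap φ g z := by
  show (p • z).sum (fun j p => φ p • g j) = φ p • z.sum (fun j p => φ p • g j)
  rw [Finsupp.sum_smul_index (fun i => by simp), Finsupp.smul_sum]
  exact Finsupp.sum_congr fun i _ => by rw [map_mul, mul_smul]

theorem genMap_surjective {P : Type u} [CommRing P] {A M : Type u} [CommRing A] [AddCommGroup M] [Module A M]
    (φ : P →+* A) (hφ : Function.Surjective φ) (g : ℕ → M) (hg : Submodule.span A (Set.range g) = ⊤) :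
    Function.Surjective (genMap φ g) := fun m => by
  have hm : m ∈ Submodule.span A (Set.range g) := hg ▸ Submodule.mem_top
  induction hm using Submodule.span_induction with
  | mem x hx =>
    obtain ⟨j, rfl⟩ := hx
    refine ⟨Finsupp.single j 1, ?_⟩
    show (Finsupp.single j (1 : P)).sum (fun i p => φ p • g i) = g j
    rw [Finsupp.sum_single_index (by simp), map_one, one_smul]
  | zero => exact ⟨0, map_zero _⟩
  | add a b _ _ ha hb =>
    obtain ⟨a, rfl⟩ := ha
    obtain ⟨b, rfl⟩ := hb
    exact ⟨a + b, map_add _ _ _⟩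
  | smul r a _ ha =>
    obtain ⟨a, rfl⟩ := ha
    obtain ⟨p, rfl⟩ := hφ r
    exact ⟨p • a, genMap_smul φ g p a⟩

/-- On one affine open the transition maps are eventually injective on sections. -/
theorem eventually_injective_app {k : Type u} [Field k] (Q : ℕᵒᵖ ⥤ X.Modules)
    (hQ : ∀ n : ℕ, Coh.IsQCoh (Q.obj (op n))) (c : Cone Q) (hG : Coh.IsQCoh c.pt)
    {U : X.Opens} (hU : IsAffineOpen U) [Algebra k Γ(X, U)] [Algebra.FiniteType k Γ(X, U)]
    (hGc : ∃ s : Set Γ(c.pt, U), s.Countable ∧ Submodule.span Γ(X, U) s = ⊤)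
    (hepi : ∀ n : ℕ, Epi (c.π.app (op n))) (hlim : Epi (limit.lift Q c)) :
    ∃ N : ℕ, ∀ n : ℕ, N ≤ n → Function.Injective ((Q.map (homOfLE (Nat.le_succ n)).op).app U) := by
  obtain ⟨S, hSc, hS⟩ := hGc
  obtain ⟨g, hg⟩ := (hSc.insert (0 : Γ(c.pt, U))).exists_eq_range (Set.insert_nonempty _ _)
  have hg' : Submodule.span Γ(X, U) (Set.range g) = ⊤ :=
    top_le_iff.1 (hS.ge.trans (Submodule.span_mono (hg ▸ Set.subset_insert _ _)))
  obtain ⟨σ, _, φ, hφ⟩ : ∃ (σ : Type u) (_ : Finite σ) (φ : MvPolynomial σ k →ₐ[k] Γ(X, U)),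
      Function.Surjective φ := by
    obtain ⟨ι, hfin, φ, hφ⟩ := Algebra.FiniteType.iff_quotient_mvPolynomial'.1 (inferInstance : Algebra.FiniteType k Γ(X, U))
    exact ⟨ι, @Finite.of_fintype _ hfin, φ, hφ⟩
  let P := MvPolynomial σ k
  let ρ : P →+* Γ(X, U) := φ.toRingHom
  let π : (ℕ →₀ P) →+ Γ(c.pt, U) := genMap ρ g
  have hπ : Function.Surjective π := genMap_surjective ρ hφ g hg'
  let q : ∀ n : ℕ, c.pt ⟶ Q.obj (op n) := fun n => c.π.app (op n)
  haveI : ∀ n, Epi (q n) := hepi
  haveI := hlim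
  have hq : ∀ n, q (n + 1) ≫ Q.map (homOfLE (Nat.le_succ n)).op = q n := fun n => c.w _
  have hq' : ∀ n x, (Q.map (homOfLE (Nat.le_succ n)).op).app U ((q (n + 1)).app U x) = (q n).app U x :=
    fun n x => by rw [← hq n]; rfl
  let K : ℕ → Submodule P (ℕ →₀ P) := fun n =>
    { carrier := {z | (q n).app U (π z) = 0}
      add_mem' := fun {a b} ha hb => by
        show (q n).app U (π (a + b)) = 0
        rw [map_add, map_add, show (q n).app U (π a) = 0 from ha, show (q n).app U (π b) = 0 from hb, add_zero]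
      zero_mem' := by
        show (q n).app U (π 0) = 0
        rw [map_zero, map_zero]
      smul_mem' := fun p a ha => by
        show (q n).app U (π (p • a)) = 0
        rw [show π (p • a) = ρ p • π a from genMap_smul ρ g p a, Scheme.Modules.Hom.app_smul,
          show (q n).app U (π a) = 0 from ha, smul_zero] }
  have hK : Antitone K := antitone_nat_of_succ_le fun n z hz => by
    show (q n).app U (π z) = 0
    rw [← hq' n, show (q (n + 1)).app U (π z) = 0 from hz, map_zero]
  obtain ⟨N, hN⟩ := eventually_constant K hK fun s hs => by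
    have ht : ∀ n, (Q.map (homOfLE (Nat.le_succ n)).op).app U ((q (n + 1)).app U (π (s (n + 1)))) =
        (q n).app U (π (s n)) := fun n => by
      rw [hq' n, ← sub_eq_zero, ← map_sub, ← map_sub]
      exact hs n
    obtain ⟨σ₀, hσ₀⟩ := exists_limit_section Q (fun n => (q n).app U (π (s n))) ht
    -- local lifts
    have hloc : ∀ x : U, ∃ (f : Γ(X, U)) (e : ℕ) (m : ℕ →₀ P), x.1 ∈ X.basicOpen f ∧
        ∀ n, ∃ e' : ℕ, f ^ e' • (f ^ e • (q n).app U (π (s n)) - (q n).app U (π m)) = 0 := fun x => by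
      obtain ⟨V, i, hxV, t, ht'⟩ := exists_local_preimage (limit.lift Q c) σ₀ x.2
      obtain ⟨f, hfV, hxf⟩ := hU.exists_basicOpen_le ⟨x.1, hxV⟩ x.2
      obtain ⟨e, y, hy⟩ := exists_pow_smul_eq_map hG hU f (c.pt.presheaf.map (homOfLE hfV).op t)
      obtain ⟨m, rfl⟩ := hπ y
      refine ⟨f, e, m, hxf, fun n => ?_⟩
      refine exists_pow_smul_eq_zero (hQ n) hU f _ ?_
      have hl : (q n).app V t = (Q.obj (op n)).presheaf.map (homOfLE i).op ((q n).app U (π (s n))) := by
        rw [← hσ₀ n, ← map_app_comm]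
        refine Eq.trans ?_ (congrArg ((limit.π Q (op n)).app V) ht')
        rw [← show limit.lift Q c ≫ limit.π Q (op n) = q n from limit.lift_π _ _]
        rfl
      have h1 : (Q.obj (op n)).presheaf.map (homOfLE (X.basicOpen_le f)).op ((q n).app U (π m)) =
          (q n).app _ (c.pt.presheaf.map (homOfLE (X.basicOpen_le f)).op (π m)) := (map_app_comm _ _ _).symm
      have h2 : (Q.obj (op n)).presheaf.map (homOfLE (X.basicOpen_le f)).op ((q n).app U (π (s n))) =
          (q n).app _ (c.pt.presheaf.map (homOfLE hfV).op t) := by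
        rw [map_app_comm, hl]
        change _ = ((Q.obj (op n)).presheaf.map (homOfLE i).op ≫ (Q.obj (op n)).presheaf.map (homOfLE hfV).op) ((q n).app U (π (s n)))
        rw [← Functor.map_comp]
        rfl
      rw [map_sub, Scheme.Modules.map_smul, map_pow, h1, h2, hy, Scheme.Modules.Hom.app_smul]
      exact sub_self _
    choose f e m hxf hfm using hloc
    obtain ⟨F, hF⟩ : ∃ F : Finset U, Ideal.span (Set.range fun x : F => f x.1) = ⊤ := by
      have htop : Ideal.span (Set.range f) = ⊤ := hU.self_le_iSup_basicOpen_iff.1 fun x hx =>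
        Opens.mem_iSup.2 ⟨⟨f ⟨x, hx⟩, ⟨x, hx⟩, rfl⟩, hxf ⟨x, hx⟩⟩
      obtain ⟨F, hF1, hF⟩ := Submodule.mem_span_finite_of_mem_span ((Ideal.eq_top_iff_one _).1 htop)
      choose x hx using fun a : (F : Set Γ(X, U)) => hF1 a.2
      classical
      refine ⟨Finset.univ.image x, (Ideal.eq_top_iff_one _).2 (Ideal.span_mono ?_ hF)⟩
      intro a ha
      exact ⟨⟨x ⟨a, ha⟩, Finset.mem_image.2 ⟨⟨a, ha⟩, Finset.mem_univ _, rfl⟩⟩, hx ⟨a, ha⟩⟩
    obtain ⟨gs, hgs⟩ := IsNoetherian.noetherian (RingHom.ker ρ)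
    classical
    let ix := F ⊕ gs
    let f' : ix → P := Sum.elim (fun x => Function.surjInv hφ (f x.1)) fun r => r.1
    let e₁ : ix → ℕ := Sum.elim (fun x => e x.1) fun _ => 0
    let m₁ : ix → (ℕ →₀ P) := Sum.elim (fun x => m x.1) fun _ => 0
    have hf' : Ideal.span (Set.range f') = ⊤ := by
      have h1 : (Ideal.span (Set.range f')).map ρ = ⊤ := by
        rw [Ideal.map_span, eq_top_iff, ← hF]
        refine Ideal.span_mono ?_
        rintro _ ⟨x, rfl⟩
        exact ⟨f' (Sum.inl x), ⟨_, rfl⟩, Function.surjInv_eq hφ _⟩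
      have h2 : RingHom.ker ρ ≤ Ideal.span (Set.range f') := by
        rw [← hgs]
        exact Ideal.span_mono fun r hr => ⟨Sum.inr ⟨r, hr⟩, rfl⟩
      have h3 := Ideal.comap_map_of_surjective ρ hφ (Ideal.span (Set.range f'))
      rw [h1, Ideal.comap_top, ← RingHom.ker_eq_comap_bot, sup_eq_left.2 h2] at h3
      exact h3.symm
    let en := (Fintype.equivFin ix).symm
    refine ⟨Fintype.card ix, f' ∘ en, e₁ ∘ en, m₁ ∘ en, by rwa [en.surjective.range_comp], fun i n => ?_⟩
    rcases h : en i with x | r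
    · obtain ⟨e', he'⟩ := hfm x.1 n
      refine ⟨e', ?_⟩
      show (q n).app U (π _) = 0
      simp only [Function.comp, h, f', e₁, m₁, Sum.elim_inl]
      rw [show ∀ (p : P) z, π (p • z) = ρ p • π z from genMap_smul ρ g, map_sub,
        show ∀ (p : P) z, π (p • z) = ρ p • π z from genMap_smul ρ g, Scheme.Modules.Hom.app_smul, map_sub,
        Scheme.Modules.Hom.app_smul, map_pow, map_pow,
        show ρ (Function.surjInv hφ (f x.1)) = f x.1 from Function.surjInv_eq hφ _]
      exact he'
    · refine ⟨1, ?_⟩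
      show (q n).app U (π _) = 0
      have hr : ρ r.1 = 0 := by
        have := Submodule.subset_span (R := P) r.2
        rw [hgs] at this
        exact this
      simp only [Function.comp, h, f', e₁, m₁, Sum.elim_inr]
      rw [show ∀ (p : P) z, π (p • z) = ρ p • π z from genMap_smul ρ g, pow_one, hr, zero_smul, map_zero]
  refine ⟨N, fun n hn => (injective_iff_map_eq_zero _).2 fun y hy => ?_⟩
  obtain ⟨x, rfl⟩ := app_surjective_of_epi hG (hQ (n + 1)) (q (n + 1)) hU y
  obtain ⟨z, rfl⟩ := hπ x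
  rw [hq'] at hy
  have hz : z ∈ K n := hy
  rw [hN n hn] at hz
  exact hz

/-- A tower of quasi-coherent quotients with epimorphic limit is eventually constant. -/
theorem main (k : Type u) [Field k] (X : Scheme.{u})
    [X.Over (Spec (CommRingCat.of k))] [LocallyOfFiniteType (X ↘ Spec (CommRingCat.of k))] [CompactSpace X]
    (Q : ℕᵒᵖ ⥤ X.Modules) (hQ : ∀ n : ℕ, Coh.IsQCoh (Q.obj (op n))) (c : Cone Q)
    (hG : Coh.IsQCoh c.pt)
    (hGc : (∀ U : X.affineOpens, ∃ s : Set (c.pt.val.obj (op (U : X.Opens))),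
        s.Countable ∧ Submodule.span (X.ringCatSheaf.obj.obj (op (U : X.Opens))) s = ⊤))
    (hepi : ∀ n : ℕ, Epi (c.π.app (op n))) (hlim : Epi (limit.lift Q c)) :
    ∃ N : ℕ, ∀ n : ℕ, N ≤ n → IsIso (Q.map (homOfLE (Nat.le_succ n)).op) := by
  obtain ⟨s, hs, hcov⟩ := (isCompact_iff_finite_and_eq_biUnion_affineOpens (U := (⊤ : X.Opens))).mp
    (CompactSpace.isCompact_univ (X := X))
  haveI := hs.to_subtype
  have hone : ∀ U : s, ∃ N : ℕ, ∀ n : ℕ, N ≤ n →
      Function.Injective ((Q.map (homOfLE (Nat.le_succ n)).op).app U.1.1) := fun U => by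
    let e := (X ↘ Spec (CommRingCat.of k)).appLE ⊤ U.1.1 le_top
    have hft : e.hom.FiniteType :=
      HasRingHomProperty.appLE @LocallyOfFiniteType (X ↘ Spec (CommRingCat.of k)) inferInstance
        ⟨⊤, isAffineOpen_top _⟩ U.1 le_top
    have hft' : (e.hom.comp (Scheme.ΓSpecIso (CommRingCat.of k)).inv.hom).FiniteType :=
      hft.comp (RingHom.FiniteType.of_surjective _ (ConcreteCategory.bijective_of_isIso _).2)
    letI : Algebra k Γ(X, U.1.1) := (e.hom.comp (Scheme.ΓSpecIso (CommRingCat.of k)).inv.hom).toAlgebra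
    haveI : Algebra.FiniteType k Γ(X, U.1.1) := hft'
    exact eventually_injective_app (k := k) Q hQ c hG U.1.2 (hGc U.1) hepi hlim
  choose N hN using hone
  obtain ⟨M, hM⟩ := (Set.finite_range N).bddAbove
  refine ⟨M, fun n hn => ?_⟩
  let a := Q.map (homOfLE (Nat.le_succ n)).op
  haveI : Epi a := by
    haveI := hepi n
    exact epi_of_epi_fac (f := c.π.app (op (n + 1))) (h := c.π.app (op n)) (c.w _)
  haveI : Mono a := by
    refine Preadditive.mono_of_isZero_kernel a (isZero_of_cover (isQCoh_kernel (hQ _) (hQ _) a)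
      (fun U : s => U.1.1) (fun U => U.1.2) (fun x => ?_) fun U => ⟨fun y y' => ?_⟩)
    · have hx : x ∈ (⊤ : X.Opens) := trivial
      rw [hcov] at hx
      simp only [Opens.mem_iSup] at hx
      obtain ⟨U, hU, hxU⟩ := hx
      exact ⟨⟨U, hU⟩, hxU⟩
    · apply app_injective (kernel.ι a)
      apply hN U n ((hM ⟨U, rfl⟩).trans hn)
      show (kernel.ι a ≫ a).app U.1.1 y = (kernel.ι a ≫ a).app U.1.1 y'
      rw [kernel.condition]
      rfl
  exact isIso_of_mono_of_epi a

end Groth.Agent.TowerEpi22
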