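import Mathlib.RingTheory.Polynomial.Basic
import Mathlib.RingTheory.Jacobson.Ring
import Mathlib.FieldTheory.IsAlgClosed.AlgebraicClosure
import Mathlib.RingTheory.Algebraic.Cardinality
import Mathlib.Algebra.MvPolynomial.Cardinal
import Mathlib.Data.Finsupp.Encodable

/-!
# Towers of quotients of a countably generated module with epimorphic limit

If `K n` is a decreasing sequence of submodules of a countably generated free module over
`k[X₁,…,X_r]` and every compatible family in the quotients lifts locally, the sequence stops: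
after descent to a countable subfield there are only countably many local lifts.
-/

set_option autoImplicit false
set_option backward.isDefEq.respectTransparency false
set_option maxHeartbeats 1000000

universe u

namespace Groth.Agent.TowerEpi22

variable {σ : Type u} {k₀ : Type u} [Field k₀]

/-- Coefficientwise application of an additive map to the free module. -/
noncomputable def mapF {R S : Type u} [CommRing R] [CommRing S] (f : R →+* S) :
    (ℕ →₀ MvPolynomial σ R) →+ (ℕ →₀ MvPolynomial σ S) :=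
  Finsupp.mapRange.addMonoidHom (MvPolynomial.map f).toAddMonoidHom

theorem mapF_apply {R S : Type u} [CommRing R] [CommRing S] (f : R →+* S) (z : ℕ →₀ MvPolynomial σ R)
    (j : ℕ) : mapF f z j = MvPolynomial.map f (z j) := rfl

theorem mapF_smul {R S : Type u} [CommRing R] [CommRing S] (f : R →+* S) (p : MvPolynomial σ R)
    (z : ℕ →₀ MvPolynomial σ R) : mapF f (p • z) = MvPolynomial.map f p • mapF f z := by
  ext j : 1
  simp [mapF_apply]

theorem mapF_comp {R S T : Type u} [CommRing R] [CommRing S] [CommRing T] (f : R →+* S) (g : S →+* T)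
    (z : ℕ →₀ MvPolynomial σ R) : mapF g (mapF f z) = mapF (g.comp f) z := by
  ext j : 1
  simp [mapF_apply, MvPolynomial.map_map]

variable {L₁ L₂ : Type u} [CommRing L₁] [CommRing L₂] [Algebra k₀ L₁] [Algebra k₀ L₂]

theorem coeff_sum_monomial (Ψ : L₁ →ₗ[k₀] L₂) (p : MvPolynomial σ L₁) (d : σ →₀ ℕ) :
    (∑ e ∈ p.support, MvPolynomial.monomial e (Ψ (p.coeff e))).coeff d = Ψ (p.coeff d) := by
  classical
  rw [MvPolynomial.coeff_sum]
  simp only [MvPolynomial.coeff_monomial, Finset.sum_ite_eq', MvPolynomial.mem_support_iff]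
  split_ifs with h
  · rfl
  · rw [not_not.1 h, map_zero]

/-- Coefficientwise application of a linear map to a polynomial. -/
noncomputable def mapP (Ψ : L₁ →ₗ[k₀] L₂) : MvPolynomial σ L₁ →+ MvPolynomial σ L₂ where
  toFun p := ∑ d ∈ p.support, MvPolynomial.monomial d (Ψ (p.coeff d))
  map_zero' := by simp
  map_add' p q := by
    apply MvPolynomial.ext
    intro d
    rw [MvPolynomial.coeff_add, coeff_sum_monomial, coeff_sum_monomial, coeff_sum_monomial, MvPolynomial.coeff_add, map_add]

theorem coeff_mapP (Ψ : L₁ →ₗ[k₀] L₂) (p : MvPolynomial σ L₁) (d : σ →₀ ℕ) :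
    (mapP Ψ p).coeff d = Ψ (p.coeff d) :=
  coeff_sum_monomial Ψ p d

theorem mapP_mul (Ψ : L₁ →ₗ[k₀] L₂) (p : MvPolynomial σ L₁) (q : MvPolynomial σ k₀) :
    mapP Ψ (p * MvPolynomial.map (algebraMap k₀ L₁) q) =
      mapP Ψ p * MvPolynomial.map (algebraMap k₀ L₂) q := by
  classical
  apply MvPolynomial.ext
  intro d
  simp only [coeff_mapP, MvPolynomial.coeff_mul, map_sum, MvPolynomial.coeff_map]
  refine Finset.sum_congr rfl fun x _ => ?_
  rw [mul_comm, ← Algebra.smul_def, map_smul, Algebra.smul_def, mul_comm]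

theorem mapP_map {B : Type u} [CommRing B] (Ψ : L₁ →ₗ[k₀] L₂) (j : B →+* L₁) (ψ : B →+* L₂)
    (h : ∀ b, Ψ (j b) = ψ b) (p : MvPolynomial σ B) :
    mapP Ψ (MvPolynomial.map j p) = MvPolynomial.map ψ p := by
  apply MvPolynomial.ext
  intro d
  simp only [coeff_mapP, MvPolynomial.coeff_map, h]

/-- The span of descended generators over an extension of the ground field. -/
noncomputable def spanOf (L : Type u) [CommRing L] [Algebra k₀ L] (U : Set (ℕ →₀ MvPolynomial σ k₀)) :
    Submodule (MvPolynomial σ L) (ℕ →₀ MvPolynomial σ L) :=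
  Submodule.span _ (mapF (algebraMap k₀ L) '' U)

/-- A linear map of extensions preserves the spans of descended generators. -/
theorem mapRange_mem_spanOf (Ψ : L₁ →ₗ[k₀] L₂) {U : Set (ℕ →₀ MvPolynomial σ k₀)}
    {z : ℕ →₀ MvPolynomial σ L₁} (hz : z ∈ spanOf L₁ U) :
    Finsupp.mapRange.addMonoidHom (mapP Ψ) z ∈ spanOf L₂ U := by
  suffices ∀ p : MvPolynomial σ L₁, Finsupp.mapRange.addMonoidHom (mapP Ψ) (p • z) ∈ spanOf L₂ U by
    simpa using this 1
  refine Submodule.span_induction ?_ ?_ ?_ ?_ hz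
  · rintro _ ⟨u, hu, rfl⟩ p
    have : Finsupp.mapRange.addMonoidHom (mapP Ψ) (p • mapF (algebraMap k₀ L₁) u) =
        mapP Ψ p • mapF (algebraMap k₀ L₂) u := by
      ext j : 1
      simp [mapF_apply, mapP_mul]
    rw [this]
    exact Submodule.smul_mem _ _ (Submodule.subset_span ⟨u, hu, rfl⟩)
  · intro p
    rw [smul_zero, map_zero]
    exact zero_mem _
  · intro a b _ _ ha hb p
    rw [smul_add, map_add]
    exact add_mem (ha p) (hb p)
  · intro c a _ ha p
    rw [smul_smul]
    exact ha _

theorem mapF_mem_spanOf {B : Type u} [CommRing B] (Ψ : L₁ →ₗ[k₀] L₂) (j : B →+* L₁) (ψ : B →+* L₂)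
    (h : ∀ b, Ψ (j b) = ψ b) {U : Set (ℕ →₀ MvPolynomial σ k₀)} {z : ℕ →₀ MvPolynomial σ B}
    (hz : mapF j z ∈ spanOf L₁ U) : mapF ψ z ∈ spanOf L₂ U := by
  convert mapRange_mem_spanOf Ψ hz using 1
  ext i : 1
  simp [mapF_apply, mapP_map Ψ j ψ h]

/-- Descended spans meet the descended module in the descended span. -/
theorem mem_span_of_mapF_mem {U : Set (ℕ →₀ MvPolynomial σ k₀)} {L : Type u} [Field L] [Algebra k₀ L]
    {z : ℕ →₀ MvPolynomial σ k₀} (hz : mapF (algebraMap k₀ L) z ∈ spanOf L U) :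
    z ∈ Submodule.span (MvPolynomial σ k₀) U := by
  obtain ⟨Ψ, hΨ⟩ := LinearMap.exists_leftInverse_of_injective (Algebra.linearMap k₀ L)
    (LinearMap.ker_eq_bot.2 (algebraMap k₀ L).injective)
  have h := mapF_mem_spanOf Ψ (algebraMap k₀ L) (RingHom.id k₀) (fun b => LinearMap.congr_fun hΨ b) hz
  have hid : ∀ w : ℕ →₀ MvPolynomial σ k₀, mapF (RingHom.id k₀) w = w := fun w => by
    ext j : 1
    exact MvPolynomial.map_id (w j)
  have hid' : ∀ w : ℕ →₀ MvPolynomial σ k₀, mapF (algebraMap k₀ k₀) w = w := fun w => hid w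
  rw [hid] at h
  rwa [spanOf, Set.image_congr fun w _ => hid' w, Set.image_id'] at h

variable {k : Type u} [Field k]

theorem exists_countable_span [Finite σ] (K : Submodule (MvPolynomial σ k) (ℕ →₀ MvPolynomial σ k)) :
    ∃ U : Set (ℕ →₀ MvPolynomial σ k), U.Countable ∧ Submodule.span _ U = K := by
  let F : ℕ → Submodule (MvPolynomial σ k) (ℕ →₀ MvPolynomial σ k) := fun d =>
    Finsupp.supported (MvPolynomial σ k) (MvPolynomial σ k) {i | i < d}
  have hfg : ∀ d, (K ⊓ F d).FG := fun d => by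
    haveI : Module.Finite (MvPolynomial σ k) (F d) := by
      haveI : Finite {i | i < d} := (Set.finite_lt_nat d).to_subtype
      exact Module.Finite.equiv (Finsupp.supportedEquivFinsupp (M := MvPolynomial σ k)
        (R := MvPolynomial σ k) {i | i < d}).symm
    exact Submodule.FG.of_le (Module.Finite.iff_fg.1 ‹Module.Finite (MvPolynomial σ k) (F d)›) inf_le_right
  choose U hU using hfg
  refine ⟨⋃ d, (U d : Set (ℕ →₀ MvPolynomial σ k)), Set.countable_iUnion fun d => (U d).countable_toSet, le_antisymm ?_ fun z hz => ?_⟩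
  · refine Submodule.span_le.2 (Set.iUnion_subset fun d u hu => ?_)
    exact ((hU d).le (Submodule.subset_span hu)).1
  · have hz' : z ∈ K ⊓ F (z.support.sup id + 1) :=
      ⟨hz, (Finsupp.mem_supported _ z).2 fun i hi => Nat.lt_succ_of_le (Finset.le_sup (f := id) hi)⟩
    have hsub : ((U (z.support.sup id + 1)) : Set (ℕ →₀ MvPolynomial σ k)) ⊆ ⋃ d, (U d : Set (ℕ →₀ MvPolynomial σ k)) :=
      Set.subset_iUnion (fun d => (U d : Set (ℕ →₀ MvPolynomial σ k))) (z.support.sup id + 1)
    have h' : z ∈ Submodule.span (MvPolynomial σ k) (U (z.support.sup id + 1) : Set (ℕ →₀ MvPolynomial σ k)) :=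
      (hU (z.support.sup id + 1)).ge hz'
    exact Submodule.span_mono hsub h'

theorem countable_mvPolynomial {τ : Type u} {R : Type*} [CommSemiring R] [Countable τ] [Countable R] :
    Countable (MvPolynomial τ R) := by
  rw [← Cardinal.mk_le_aleph0_iff]
  exact MvPolynomial.cardinalMk_le_max_lift.trans (max_le (max_le (by simp) (by simp)) le_rfl)

theorem countable_closure {C : Set k} (hC : C.Countable) : Countable (Subfield.closure C) := by
  haveI := hC.to_subtype
  let R₀ := Subring.closure C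
  haveI : Countable (MvPolynomial C ℤ) := countable_mvPolynomial
  let e : MvPolynomial C ℤ →+* k := MvPolynomial.eval₂Hom (Int.castRingHom k) Subtype.val
  have hR : (R₀ : Set k) ⊆ Set.range e := by
    show R₀ ≤ e.range
    exact Subring.closure_le.2 fun c hc => ⟨MvPolynomial.X ⟨c, hc⟩, by simp [e]⟩
  have : ((Subfield.closure C : Subfield k) : Set k) ⊆ Set.range fun p : MvPolynomial C ℤ × MvPolynomial C ℤ => e p.1 / e p.2 := by
    intro x hx
    obtain ⟨y, hy, z, hz, rfl⟩ := Subfield.mem_closure_iff.1 hx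
    obtain ⟨a, rfl⟩ := hR hy
    obtain ⟨b, rfl⟩ := hR hz
    exact ⟨(a, b), rfl⟩
  exact ((Set.countable_range _).mono this).to_subtype

theorem exists_map_eq {B : Type u} [CommRing B] {L : Type u} [CommRing L] (j : B →+* L) (p : MvPolynomial σ L)
    (h : ∀ d, p.coeff d ∈ Set.range j) : ∃ q, MvPolynomial.map j q = p := by
  classical
  choose c hc using h
  refine ⟨∑ d ∈ p.support, MvPolynomial.monomial d (c d), ?_⟩
  apply MvPolynomial.ext
  intro d
  rw [map_sum, MvPolynomial.coeff_sum]
  simp only [MvPolynomial.map_monomial, hc, MvPolynomial.coeff_monomial, Finset.sum_ite_eq',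
    MvPolynomial.mem_support_iff]
  split_ifs with h'
  · rfl
  · exact (not_not.1 h').symm

theorem exists_mapF_eq {B : Type u} [CommRing B] {L : Type u} [CommRing L] (j : B →+* L)
    (z : ℕ →₀ MvPolynomial σ L) (h : ∀ i d, (z i).coeff d ∈ Set.range j) : ∃ w, mapF j w = z := by
  classical
  choose q hq using fun i => exists_map_eq j (z i) (h i)
  refine ⟨∑ i ∈ z.support, Finsupp.single i (q i), ?_⟩
  ext i : 1
  rw [mapF_apply, Finsupp.finsetSum_apply]
  simp only [Finsupp.single_apply, Finset.sum_ite_eq', Finsupp.mem_support_iff]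
  split_ifs with h'
  · exact hq i
  · rw [map_zero]; exact (not_not.1 h').symm

open scoped Classical in
/-- A tower of quotients of a countably generated free module all whose compatible families lift
locally is eventually constant. -/
theorem eventually_constant [Finite σ] (K : ℕ → Submodule (MvPolynomial σ k) (ℕ →₀ MvPolynomial σ k))
    (hK : Antitone K)
    (hlift : ∀ s : ℕ → (ℕ →₀ MvPolynomial σ k), (∀ n, s (n + 1) - s n ∈ K n) →
      ∃ (q : ℕ) (f : Fin q → MvPolynomial σ k) (e : Fin q → ℕ) (m : Fin q → (ℕ →₀ MvPolynomial σ k)),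
        Ideal.span (Set.range f) = ⊤ ∧ ∀ i n, ∃ e', f i ^ e' • (f i ^ e i • s n - m i) ∈ K n) :
    ∃ N, ∀ n, N ≤ n → K n = K (n + 1) := by
  by_contra hne
  push Not at hne
  let S : Set ℕ := {n | K n ≠ K (n + 1)}
  have hS : S.Infinite := Set.infinite_iff_exists_gt.2 fun a => by
    obtain ⟨n, hn, hn'⟩ := hne (a + 1)
    exact ⟨n, hn', hn⟩
  choose U hUc hU using fun n => exists_countable_span (K n)
  let C : Set k := ⋃ n, ⋃ u ∈ U n, ⋃ (i : ℕ), Set.range fun d => MvPolynomial.coeff d (u i)
  have hC : C.Countable := Set.countable_iUnion fun n => (hUc n).biUnion fun u _ =>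
    Set.countable_iUnion fun i => Set.countable_range _
  let k₀ := Subfield.closure C
  haveI : Countable k₀ := countable_closure hC
  let ι : k₀ →+* k := algebraMap k₀ k
  have hdesc : ∀ n, ∀ u ∈ U n, ∃ u₀, mapF ι u₀ = u := fun n u hu => exists_mapF_eq ι u fun i d =>
    ⟨⟨_, Subfield.subset_closure (Set.mem_iUnion.2 ⟨n, Set.mem_biUnion hu (Set.mem_iUnion.2 ⟨i, d, rfl⟩)⟩)⟩, rfl⟩
  let U₀ : ℕ → Set (ℕ →₀ MvPolynomial σ k₀) := fun n => mapF ι ⁻¹' U n
  have hspan : ∀ n, spanOf k (U₀ n) = K n := fun n => by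
    rw [← hU n, spanOf, Set.image_preimage_eq_of_subset (fun u hu => hdesc n u hu)]
  -- the witnesses of the strict steps
  have hwit : ∀ n ∈ S, ∃ h ∈ U₀ n, mapF ι h ∉ K (n + 1) := fun n hn => by
    by_contra hh
    push Not at hh
    apply hn
    refine le_antisymm ?_ (hK (Nat.le_succ n))
    rw [← hU n]
    refine Submodule.span_le.2 fun u hu => ?_
    obtain ⟨u₀, rfl⟩ := hdesc n u hu
    exact hh u₀ hu
  choose h hhU hhK using hwit
  haveI : Infinite S := hS.to_subtype
  let t : (S → Bool) → ℕ → (ℕ →₀ MvPolynomial σ k₀) := fun c i =>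
    if hi : i ∈ S then (if c ⟨i, hi⟩ then h i hi else 0) else 0
  let s : (S → Bool) → ℕ → (ℕ →₀ MvPolynomial σ k₀) := fun c n => ∑ i ∈ Finset.range n, t c i
  have ht : ∀ c i, t c i ∈ Submodule.span (MvPolynomial σ k₀) (U₀ i) := fun c i => by
    simp only [t]
    split_ifs with hi hc
    · exact Submodule.subset_span (hhU i hi)
    · exact zero_mem _
    · exact zero_mem _
  have hK₀ : ∀ n z, z ∈ Submodule.span (MvPolynomial σ k₀) (U₀ n) → mapF ι z ∈ K n := fun n z hz => by
    induction hz using Submodule.span_induction with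
    | mem x hx => rw [← hU n]; exact Submodule.subset_span hx
    | zero => simp
    | add a b _ _ ha hb => rw [map_add]; exact add_mem ha hb
    | smul r a _ ha => rw [mapF_smul]; exact Submodule.smul_mem _ _ ha
  let Kb := AlgebraicClosure k₀
  haveI : Countable Kb := Cardinal.mk_le_aleph0_iff.1
    ((Algebra.IsAlgebraic.cardinalMk_le_max k₀ Kb).trans (max_le Cardinal.mk_le_aleph0 le_rfl))
  let jb := algebraMap k₀ Kb
  -- the countable set of possible lifts
  let T := Σ q : ℕ, (Fin q → MvPolynomial σ Kb) × (Fin q → ℕ) × (Fin q → (ℕ →₀ MvPolynomial σ Kb))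
  haveI : Countable (σ →₀ ℕ) := inferInstance
  haveI : Countable (MvPolynomial σ Kb) := countable_mvPolynomial
  haveI : Countable T := inferInstance
  let Good : (S → Bool) → T → Prop := fun c x => Ideal.span (Set.range x.2.1) = ⊤ ∧
    ∀ i n, ∃ e', x.2.1 i ^ e' • (x.2.1 i ^ x.2.2.1 i • mapF jb (s c n) - x.2.2.2 i) ∈ spanOf Kb (U₀ n)
  have hex : ∀ c, ∃ x, Good c x := fun c => by
    obtain ⟨q, f, e, m, hf, hfm⟩ := hlift (fun n => mapF ι (s c n)) fun n => by
      show mapF ι (s c (n + 1)) - mapF ι (s c n) ∈ K n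
      rw [← map_sub, show s c (n + 1) - s c n = t c n by
        simp only [s, Finset.sum_range_succ]; abel]
      exact hK₀ n _ (ht c n)
    obtain ⟨a, ha⟩ := Ideal.mem_span_range_iff_exists_fun.1 ((Ideal.eq_top_iff_one _).1 hf)
    let Fc : Finset k := ((Finset.univ : Finset (Fin q)).biUnion fun i =>
      ((f i).support.image fun d => (f i).coeff d) ∪ ((a i).support.image fun d => (a i).coeff d) ∪
        (m i).support.biUnion fun l => ((m i l).support.image fun d => (m i l).coeff d))
    let B := Algebra.adjoin k₀ (Fc : Set k)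
    haveI : Algebra.FiniteType k₀ B := (Subalgebra.fg_iff_finiteType _).1 ⟨Fc, rfl⟩
    let j : B →+* k := B.val.toRingHom
    have hmem : ∀ x ∈ Fc, x ∈ Set.range j := fun x hx => ⟨⟨x, Algebra.subset_adjoin hx⟩, rfl⟩
    have hmem' : ∀ (p : MvPolynomial σ k), (∀ d ∈ p.support, p.coeff d ∈ Fc) → ∀ d, p.coeff d ∈ Set.range j :=
      fun p hp d => by
        by_cases hd : d ∈ p.support
        · exact hmem _ (hp d hd)
        · rw [MvPolynomial.notMem_support_iff.1 hd]; exact ⟨0, map_zero j⟩
    choose fB hfB using fun i => exists_map_eq j (f i) (hmem' _ fun d hd => by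
      simp only [Fc, Finset.mem_biUnion, Finset.mem_union, Finset.mem_image]
      exact ⟨i, Finset.mem_univ _, Or.inl (Or.inl ⟨d, hd, rfl⟩)⟩)
    choose aB haB using fun i => exists_map_eq j (a i) (hmem' _ fun d hd => by
      simp only [Fc, Finset.mem_biUnion, Finset.mem_union, Finset.mem_image]
      exact ⟨i, Finset.mem_univ _, Or.inl (Or.inr ⟨d, hd, rfl⟩)⟩)
    choose mB hmB using fun i => exists_mapF_eq j (m i) fun l => hmem' _ fun d hd => by
      simp only [Fc, Finset.mem_biUnion, Finset.mem_union, Finset.mem_image]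
      refine ⟨i, Finset.mem_univ _, Or.inr ⟨l, ?_, d, hd, rfl⟩⟩
      rw [Finsupp.mem_support_iff]
      intro h0
      rw [h0] at hd
      simp at hd
    obtain ⟨M, hM⟩ := Ideal.exists_maximal B
    letI : Field (B ⧸ M) := Ideal.Quotient.field M
    haveI : Module.Finite k₀ (B ⧸ M) := finite_of_finite_type_of_isJacobsonRing k₀ (B ⧸ M)
    let θ : (B ⧸ M) →ₐ[k₀] Kb := IsAlgClosed.lift
    let ψ : B →ₐ[k₀] Kb := θ.comp (Ideal.Quotient.mkₐ k₀ M)
    obtain ⟨Ψ, hΨ⟩ := LinearMap.exists_extend (p := B.toSubmodule) ψ.toLinearMap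
    have hψj : ∀ b, Ψ (j b) = ψ.toRingHom b := fun b => LinearMap.congr_fun hΨ b
    refine ⟨⟨q, fun i => MvPolynomial.map ψ.toRingHom (fB i), e, fun i => mapF ψ.toRingHom (mB i)⟩, ?_, fun i n => ?_⟩
    · rw [Ideal.eq_top_iff_one, Ideal.mem_span_range_iff_exists_fun]
      refine ⟨fun i => MvPolynomial.map ψ.toRingHom (aB i), ?_⟩
      have h1 : (∑ i, aB i * fB i) = 1 := by
        apply MvPolynomial.map_injective j Subtype.val_injective
        simpa [map_sum, hfB, haB] using ha
      simpa [map_sum] using congrArg (MvPolynomial.map ψ.toRingHom) h1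
    · obtain ⟨e', he'⟩ := hfm i n
      refine ⟨e', ?_⟩
      have hj : mapF j (fB i ^ e' • (fB i ^ e i • mapF (algebraMap k₀ B) (s c n) - mB i)) =
          f i ^ e' • (f i ^ e i • mapF ι (s c n) - m i) := by
        rw [mapF_smul, map_sub, mapF_smul, mapF_comp, hmB, map_pow, map_pow, hfB]
        rfl
      have h2 := mapF_mem_spanOf Ψ j ψ.toRingHom hψj (U := U₀ n)
        (z := fB i ^ e' • (fB i ^ e i • mapF (algebraMap k₀ B) (s c n) - mB i))
        (by rw [hj, hspan]; exact he')
      rw [mapF_smul, map_sub, mapF_smul, mapF_comp, map_pow, map_pow,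
        show ψ.toRingHom.comp (algebraMap k₀ B) = jb from ψ.comp_algebraMap] at h2
      exact h2
  choose x hx using hex
  have hinj : Function.Injective x := fun c c' hcc => by
    by_contra hne'
    obtain ⟨i0, hi0⟩ := Function.ne_iff.1 hne'
    have hd : ∃ i, ∃ hi : i ∈ S, c ⟨i, hi⟩ ≠ c' ⟨i, hi⟩ := ⟨i0.1, i0.2, hi0⟩
    classical
    obtain ⟨hi, hci⟩ := Nat.find_spec hd
    set n := Nat.find hd with hn
    have hlt : ∀ l, l < n → t c l = t c' l := fun l hl => by
      simp only [t]
      split_ifs with hl' h1 h2 h2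
      all_goals first
        | rfl
        | exact absurd (Nat.find_min hd hl) (by simp only [not_not]; exact ⟨hl', by simp_all⟩)
    have hx' := hx c'
    rw [← hcc] at hx'
    obtain ⟨hspan1, hxc⟩ := hx c
    have hd0 : mapF jb (s c (n + 1) - s c' (n + 1)) ∈ spanOf Kb (U₀ (n + 1)) := by
      refine Submodule.mem_of_span_eq_top_of_smul_pow_mem _ (Set.range (x c).2.1) hspan1 _ ?_
      rintro ⟨_, i, rfl⟩
      obtain ⟨e₁, he₁⟩ := hxc i (n + 1)
      obtain ⟨e₂, he₂⟩ := hx'.2 i (n + 1)
      refine ⟨e₁ + e₂ + (x c).2.2.1 i, ?_⟩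
      have := sub_mem (Submodule.smul_mem _ ((x c).2.1 i ^ e₂) he₁) (Submodule.smul_mem _ ((x c).2.1 i ^ e₁) he₂)
      convert this using 1
      rw [map_sub]
      simp only [smul_sub, smul_smul, pow_add]
      ring_nf
      abel
    have hd1 := mem_span_of_mapF_mem hd0
    have hd2 : s c (n + 1) - s c' (n + 1) = t c n - t c' n := by
      simp only [s, Finset.sum_range_succ]
      rw [Finset.sum_congr rfl fun l hl => hlt l (Finset.mem_range.1 hl)]
      abel
    rw [hd2] at hd1
    have hin : mapF ι (h n hi) ∈ K (n + 1) := by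
      have h1 := hK₀ _ _ hd1
      simp only [t, dif_pos hi] at h1
      cases hc : c ⟨n, hi⟩ <;> cases hc' : c' ⟨n, hi⟩
      · exact absurd (hc.trans hc'.symm) hci
      · simpa [hc, hc'] using h1
      · simpa [hc, hc'] using h1
      · exact absurd (hc.trans hc'.symm) hci
    exact hhK n hi hin
  haveI : Countable (S → Bool) := hinj.countable
  obtain ⟨g⟩ : Nonempty (ℕ ↪ S) := ⟨Infinite.natEmbedding S⟩
  haveI : Countable (ℕ → Bool) := (Function.Surjective.countable (f := fun (c : S → Bool) => c ∘ g)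
    fun d => ⟨Function.extend g d fun _ => false, funext fun m => g.injective.extend_apply d _ m⟩)
  obtain ⟨F, hF⟩ := exists_surjective_nat (ℕ → Bool)
  obtain ⟨m, hm⟩ := hF fun m => !F m m
  have := congrFun hm m
  simp at this

end Groth.Agent.TowerEpi22
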